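import Groth.Prelude.Def_Frob
import Groth.Prelude.Def_Pi1
import Groth.Agent.AlgGrp1.FrobPow
import Groth.Agent.Variety2.Normal
import Mathlib.FieldTheory.PurelyInseparable.Exponent
import Mathlib.AlgebraicGeometry.Morphisms.FiniteType
import Mathlib.AlgebraicGeometry.Morphisms.Integral
import Mathlib.AlgebraicGeometry.Morphisms.UniversallyInjective

/-!
Powers of Frobenius on sections, and `p^n`-th powers of functions along an integral universally injective dominant
morphism of finite type between integral schemes with normal target.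
-/

set_option autoImplicit false
universe u
open CategoryTheory CategoryTheory.Limits AlgebraicGeometry

noncomputable section

namespace Groth.Agent.Misc6.FrobRoot

open Groth.AlgGrp1.FrobPow

variable (p : ℕ) [Fact p.Prime]

theorem iterate_eq_Fp (X : Scheme.{u}) [FrobSch.IsCharP X p] (n : ℕ) :
    (fun g : X ⟶ X => g ≫ FrobSch.frob X p)^[n] (𝟙 X) = Fp X p n := by
  induction n with
  | zero => rfl
  | succ n ih => rw [Function.iterate_succ_apply', ih, Fp_succ]

theorem Fp_preimage (X : Scheme.{u}) [FrobSch.IsCharP X p] (n : ℕ) (U : X.Opens) :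
    Fp X p n ⁻¹ᵁ U = U := by
  ext x
  show (Fp X p n).base x ∈ U ↔ x ∈ U
  rw [Fp_apply]

theorem Fp_appLE (X : Scheme.{u}) [FrobSch.IsCharP X p] (n : ℕ) (U : X.Opens)
    (e : U ≤ Fp X p n ⁻¹ᵁ U) (s : Γ(X, U)) : (Fp X p n).appLE U U e s = s ^ p ^ n := by
  induction n with
  | zero =>
    have h : (Fp X p 0).appLE U U e = 𝟙 _ := by
      show (𝟙 X : X ⟶ X).appLE U U _ = _
      simp [Scheme.Hom.appLE]
      exact (Category.id_comp _).trans (X.presheaf.map_id _)
    rw [h, pow_zero, pow_one]
    rfl
  | succ n ih =>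
    have e1 : U ≤ Fp X p n ⁻¹ᵁ U := (Fp_preimage p X n U).ge
    have h : (FrobSch.frob X p).appLE U U le_rfl = (FrobSch.frob X p).app U :=
      Scheme.Hom.appLE_eq_app _
    have h2 := congr($(Scheme.Hom.appLE_comp_appLE (Fp X p n) (FrobSch.frob X p) U U U le_rfl e1) s)
    refine h2.symm.trans ?_
    show (Fp X p n).appLE U U e1 ((FrobSch.frob X p).appLE U U le_rfl s) = _
    refine (congrArg (fun y => (Fp X p n).appLE U U e1 y)
      ((congr($h s)).trans (FrobSch.frob_app X p U s))).trans ?_
    show (Fp X p n).appLE U U e1 (s ^ p) = _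
    rw [map_pow, ih e1, ← pow_mul, pow_succ]

/-- an element of a finite purely inseparable extension of degree `p^n` has its `p^n`-th power in the base. -/
theorem pow_mem_range_of_finrank {K L : Type u} [Field K] [Field L] [Algebra K L] [ExpChar K p]
    [IsPurelyInseparable K L] [FiniteDimensional K L] {n : ℕ} (hn : Module.finrank K L = p ^ n)
    (a : L) : a ^ p ^ n ∈ (algebraMap K L).range := by
  obtain ⟨b, hb⟩ := IsPurelyInseparable.elemExponent_def' K p a
  have hle : IsPurelyInseparable.elemExponent K a ≤ n := by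
    have := minpoly.natDegree_le (A := K) a
    rw [IsPurelyInseparable.minpoly_natDegree_eq' K p a, hn] at this
    exact (Nat.pow_le_pow_iff_right (Fact.out : p.Prime).one_lt).mp this
  refine ⟨b ^ p ^ (n - IsPurelyInseparable.elemExponent K a), ?_⟩
  rw [map_pow, hb, ← pow_mul, ← pow_add, Nat.add_sub_cancel' hle]

theorem pow_mem_range_of_ringHom {K L : Type u} [Field K] [Field L] (φ : K →+* L) [ExpChar K p]
    (hpi : φ.IsPurelyInseparable) (hfin : φ.Finite) :
    ∃ n : ℕ, @Module.finrank K L _ _ φ.toAlgebra.toModule = p ^ n ∧ ∀ a : L, a ^ p ^ n ∈ φ.range := by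
  letI := φ.toAlgebra
  haveI : IsPurelyInseparable K L := hpi
  haveI : Module.Finite K L := hfin
  obtain ⟨n, hn⟩ := IsPurelyInseparable.finrank_eq_pow (F := K) L p
  exact ⟨n, hn, fun a => pow_mem_range_of_finrank p hn a⟩

variable {X Y : Scheme.{u}} [IsIntegral X] [IsIntegral Y] (u : X ⟶ Y) [IsIntegralHom u]
  [UniversallyInjective u] [LocallyOfFiniteType u]
  (e : u (genericPoint X) = genericPoint Y)

/-- the map of function fields. -/
def ffMap : Y.functionField →+* X.functionField :=
  (Y.presheaf.stalkSpecializes (specializes_of_eq e) ≫ u.stalkMap (genericPoint X)).hom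

omit [IsIntegralHom u] [UniversallyInjective u] [LocallyOfFiniteType u] in
theorem ffMap_germ (U : Y.Opens) (hU : genericPoint Y ∈ U) (b : Γ(Y, U)) :
    ffMap u e (Y.presheaf.germ U _ hU b) =
      X.presheaf.germ (u ⁻¹ᵁ U) (genericPoint X) (by show u (genericPoint X) ∈ U; rw [e]; exact hU)
        (u.app U b) := by
  show (Y.presheaf.stalkSpecializes (specializes_of_eq e) ≫ u.stalkMap (genericPoint X))
    (Y.presheaf.germ U _ hU b) = _
  rw [CommRingCat.comp_apply, TopCat.Presheaf.germ_stalkSpecializes_apply, Scheme.Hom.germ_stalkMap_apply]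

theorem isIso_stalkSpecializes {y₁ y₂ : Y} (h : y₁ = y₂) :
    IsIso (Y.presheaf.stalkSpecializes (specializes_of_eq h)) :=
  inferInstanceAs (IsIso (Y.presheaf.stalkCongr (.of_eq h.symm)).hom)

omit [IsIntegralHom u] [LocallyOfFiniteType u] in
theorem isPurelyInseparable_ffMap [FrobSch.IsCharP Y p] : (ffMap u e).IsPurelyInseparable := by
  have hp : (p : Y.functionField) = 0 := by
    have h := congrArg (Y.presheaf.germ ⊤ (genericPoint Y) trivial).hom
      (FrobSch.IsCharP.natCast_eq_zero (X := Y) (p := p))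
    simpa using h
  haveI : CharP Y.functionField p := (CharP.charP_iff_prime_eq_zero Fact.out).2 hp
  haveI : ExpChar Y.functionField p := ExpChar.prime Fact.out
  set η := genericPoint X
  have hpi : (u.residueFieldMap η).hom.IsPurelyInseparable :=
    (((tfae_universallyInjective u).out 0 2 :
      UniversallyInjective u ↔ Function.Injective u ∧
        ∀ x, (u.residueFieldMap x).hom.IsPurelyInseparable).1 inferInstance).2 η
  have hres : (p : Y.residueField (u η)) = 0 := by
    have h := congrArg (Y.presheaf.germ ⊤ (u η) trivial ≫ Y.residue (u η)).hom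
      (FrobSch.IsCharP.natCast_eq_zero (X := Y) (p := p))
    simpa using h
  haveI : CharP (Y.residueField (u η)) p := (CharP.charP_iff_prime_eq_zero Fact.out).2 hres
  haveI : ExpChar (Y.residueField (u η)) p := ExpChar.prime Fact.out
  refine (@isPurelyInseparable_iff_pow_mem _ X.functionField _ _ _ (ffMap u e).toAlgebra p _).2
    fun a => ?_
  obtain ⟨m, b, hb⟩ := (@isPurelyInseparable_iff_pow_mem _ (X.residueField η) _ _ _
    (u.residueFieldMap η).hom.toAlgebra p _).1 hpi (X.residue η a)
  obtain ⟨b', rfl⟩ := Y.residue_surjective (u η) b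
  haveI := isIso_stalkSpecializes e
  refine ⟨m, inv (Y.presheaf.stalkSpecializes (specializes_of_eq e)) b', ?_⟩
  show (Y.presheaf.stalkSpecializes (specializes_of_eq e) ≫ u.stalkMap η) _ = a ^ p ^ m
  rw [← CommRingCat.comp_apply, IsIso.inv_hom_id_assoc]
  have hinj : Function.Injective (X.residue η) := RingHom.injective (X.residue η).hom
  apply hinj
  rw [map_pow, ← CommRingCat.comp_apply, ← Scheme.residue_residueFieldMap, CommRingCat.comp_apply]
  exact hb

omit [UniversallyInjective u] in
theorem finite_ffMap : (ffMap u e).Finite := by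
  have h1 : (ffMap u e).EssFiniteType := by
    haveI := isIso_stalkSpecializes e
    refine RingHom.EssFiniteType.stableUnderComposition _ _ ?_ (LocallyOfFiniteType.stalkMap u _)
    exact (RingHom.FiniteType.of_surjective _ (ConcreteCategory.bijective_of_isIso
      (Y.presheaf.stalkSpecializes (specializes_of_eq e))).2).essFiniteType
  letI := (ffMap u e).toAlgebra
  haveI : Algebra.EssFiniteType Y.functionField X.functionField := h1
  haveI : Algebra.IsAlgebraic Y.functionField X.functionField := by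
    obtain ⟨_, ⟨U, hU, rfl⟩, hηU, -⟩ := Y.isBasis_affineOpens.exists_subset_of_mem_open
      (Set.mem_univ (genericPoint Y)) isOpen_univ
    have hηV : genericPoint X ∈ u ⁻¹ᵁ U := by show u (genericPoint X) ∈ U; rw [e]; exact hηU
    haveI : Nonempty (u ⁻¹ᵁ U) := ⟨⟨_, hηV⟩⟩
    haveI : IsFractionRing Γ(X, u ⁻¹ᵁ U) X.functionField :=
      functionField_isFractionRing_of_isAffineOpen X _ (hU.preimage u)
    have key : ∀ b : Γ(X, u ⁻¹ᵁ U),
        IsIntegral Y.functionField (X.presheaf.germ _ _ hηV b : X.functionField) := by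
      intro b
      obtain ⟨q, hq, hq0⟩ := u.isIntegral_app U hU b
      refine ⟨q.map (Y.presheaf.germ U _ hηU).hom, hq.map _, ?_⟩
      rw [Polynomial.eval₂_map]
      have hc : (algebraMap Y.functionField X.functionField).comp (Y.presheaf.germ U _ hηU).hom =
          (X.presheaf.germ (u ⁻¹ᵁ U) _ hηV).hom.comp (u.app U).hom :=
        RingHom.ext fun c => ffMap_germ u e U hηU c
      rw [hc, ← Polynomial.hom_eval₂, hq0, map_zero]
    refine ⟨fun a => ?_⟩
    obtain ⟨b, c, -, rfl⟩ := IsFractionRing.div_surjective Γ(X, u ⁻¹ᵁ U) a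
    exact (key b).isAlgebraic.mul (key c).isAlgebraic.inv
  exact Algebra.finite_of_essFiniteType_of_isAlgebraic

theorem exists_pow_mem_range_app [FrobSch.IsCharP Y p] (hY : Pi1.IsNormalScheme Y) :
    ∃ n : ℕ, @Module.finrank Y.functionField X.functionField _ _ (ffMap u e).toAlgebra.toModule =
      p ^ n ∧ ∀ (U : Y.Opens), IsAffineOpen U → ∀ a : Γ(X, u ⁻¹ᵁ U), a ^ p ^ n ∈ (u.app U).hom.range := by
  have hp : (p : Y.functionField) = 0 := by
    have h := congrArg (Y.presheaf.germ ⊤ (genericPoint Y) trivial).hom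
      (FrobSch.IsCharP.natCast_eq_zero (X := Y) (p := p))
    simpa using h
  haveI : CharP Y.functionField p := (CharP.charP_iff_prime_eq_zero Fact.out).2 hp
  haveI : ExpChar Y.functionField p := ExpChar.prime Fact.out
  obtain ⟨n, hn, hpow⟩ := pow_mem_range_of_ringHom p (ffMap u e)
    (isPurelyInseparable_ffMap p u e) (finite_ffMap u e)
  refine ⟨n, hn, fun U hU a => ?_⟩
  rcases isEmpty_or_nonempty U with hne | hne
  · have : u ⁻¹ᵁ U = ⊥ := by
      ext x
      exact iff_of_false (fun hx => hne.false ⟨_, hx⟩) id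
    haveI : Subsingleton Γ(X, u ⁻¹ᵁ U) := by
      rw [this]; infer_instance
    exact ⟨0, Subsingleton.elim _ _⟩
  have hηU : genericPoint Y ∈ U := ((genericPoint_spec Y).mem_open_set_iff U.2).mpr (by
    obtain ⟨y⟩ := hne; exact ⟨y.1, ⟨trivial, y.2⟩⟩)
  have hηV : genericPoint X ∈ u ⁻¹ᵁ U := by show u (genericPoint X) ∈ U; rw [e]; exact hηU
  haveI : Nonempty (u ⁻¹ᵁ U) := ⟨⟨_, hηV⟩⟩
  haveI := Groth.Variety2.isIntegrallyClosed_Γ (fun y => (hY y).2) U
  haveI : IsFractionRing Γ(Y, U) Y.functionField :=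
    functionField_isFractionRing_of_isAffineOpen Y _ hU
  obtain ⟨c, hc⟩ := hpow (X.presheaf.germ (u ⁻¹ᵁ U) _ hηV a)
  have hint : _root_.IsIntegral Γ(Y, U) c := by
    obtain ⟨q, hq, hq0⟩ := u.isIntegral_app U hU (a ^ p ^ n)
    refine ⟨q, hq, (ffMap u e).injective ?_⟩
    rw [Polynomial.hom_eval₂, hc, map_zero, ← map_pow]
    have hcomp : (ffMap u e).comp (algebraMap Γ(Y, U) Y.functionField) =
        (X.presheaf.germ (u ⁻¹ᵁ U) _ hηV).hom.comp (u.app U).hom :=
      RingHom.ext fun b => ffMap_germ u e U hηU b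
    rw [hcomp, ← Polynomial.hom_eval₂, hq0, map_zero]
  obtain ⟨b, hb⟩ := IsIntegrallyClosed.isIntegral_iff.mp hint
  refine ⟨b, ?_⟩
  apply germ_injective_of_isIntegral X (genericPoint X) hηV
  refine (ffMap_germ u e U hηU b).symm.trans ?_
  rw [map_pow, ← hc]
  exact congrArg (ffMap u e) hb

end Groth.Agent.Misc6.FrobRoot
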