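import Groth.Agent.Misc6.FrobRoot.Basic
import Groth.Agent.Misc6.WeakNormFactor

/-!
If all `p^n`-th powers of sections upstairs come from downstairs, the `n`-th power of Frobenius factors through `u`.
-/

set_option autoImplicit false
universe u
open CategoryTheory CategoryTheory.Limits AlgebraicGeometry

noncomputable section

namespace Groth.Agent.Misc6.FrobRoot

open Groth.AlgGrp1.FrobPow

variable (p : ℕ) [Fact p.Prime] {X Y : Scheme.{u}} (u : X ⟶ Y) [IsAffineHom u] [Surjective u]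
  [IsSchemeTheoreticallyDominant u] [FrobSch.IsCharP X p]

theorem exists_root (n : ℕ)
    (hr : ∀ (U : Y.Opens), IsAffineOpen U → ∀ a : Γ(X, u ⁻¹ᵁ U), a ^ p ^ n ∈ (u.app U).hom.range) :
    ∃ v : Y ⟶ X, u ≫ v = Fp X p n := by
  let ι := Y.affineOpens
  let cov : Y.OpenCover :=
    Scheme.openCoverOfIsOpenCover Y (fun U : ι => U.1) (iSup_affineOpens_eq_top Y)
  let θ : ∀ U : ι, Γ(X, u ⁻¹ᵁ U.1) ⟶ Γ(Y, U.1) := fun U => CommRingCat.ofHom
    ((RingEquiv.ofBijective (u.app U.1).hom.rangeRestrict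
        ⟨fun a b hab => u.app_injective U.1 (congrArg Subtype.val hab),
          (u.app U.1).hom.rangeRestrict_surjective⟩).symm.toRingHom.comp
      (((Fp X p n).appLE (u ⁻¹ᵁ U.1) (u ⁻¹ᵁ U.1) (Fp_preimage p X n _).ge).hom.codRestrict
        (u.app U.1).hom.range fun a => by
          rw [show ((Fp X p n).appLE (u ⁻¹ᵁ U.1) (u ⁻¹ᵁ U.1) (Fp_preimage p X n _).ge).hom a =
            a ^ p ^ n from Fp_appLE p X n _ _ a]
          exact hr U.1 U.2 a))
  have hθ : ∀ U : ι, θ U ≫ u.app U.1 =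
      (Fp X p n).appLE (u ⁻¹ᵁ U.1) (u ⁻¹ᵁ U.1) (Fp_preimage p X n _).ge := by
    intro U
    ext a
    simp only [θ, CommRingCat.comp_apply, CommRingCat.hom_ofHom, RingHom.comp_apply]
    exact congrArg Subtype.val ((RingEquiv.ofBijective (u.app U.1).hom.rangeRestrict
      ⟨fun a b hab => u.app_injective U.1 (congrArg Subtype.val hab),
        (u.app U.1).hom.rangeRestrict_surjective⟩).apply_symm_apply _)
  let ψ : ∀ U : ι, (U.1 : Scheme.{u}) ⟶ X := fun U =>
    U.1.toSpecΓ ≫ Spec.map (θ U) ≫ (U.2.preimage u).fromSpec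
  have hψ : ∀ (U : ι) (Z : Scheme.{u}) (a : Z ⟶ X) (b : Z ⟶ U.1),
      b ≫ U.1.ι = a ≫ u → b ≫ ψ U = a ≫ Fp X p n := by
    intro U Z a b hab
    have ha : ⊤ ≤ a ⁻¹ᵁ (u ⁻¹ᵁ U.1) := fun z _ => by
      show (a ≫ u).base z ∈ U.1
      rw [← hab, Scheme.Hom.comp_apply]
      exact (b.base z).2
    have h2 : ⊤ ≤ (a ≫ Fp X p n) ⁻¹ᵁ (u ⁻¹ᵁ U.1) :=
      le_trans ha (a.preimage_mono (Fp_preimage p X n _).ge)
    show b ≫ U.1.toSpecΓ ≫ _ = _
    rw [← Category.assoc, WeakNorm.lift_toSpecΓ (a ≫ u) U.1 ha b hab, Category.assoc,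
      ← Spec.map_comp_assoc]
    have : θ U ≫ (a ≫ u).appLE U.1 ⊤ ha = (a ≫ Fp X p n).appLE (u ⁻¹ᵁ U.1) ⊤ h2 := by
      rw [← Scheme.Hom.appLE_comp_appLE a u U.1 (u ⁻¹ᵁ U.1) ⊤ le_rfl ha, ← Category.assoc,
        ← Scheme.Hom.app_eq_appLE, hθ U, Scheme.Hom.appLE_comp_appLE]
    rw [this]
    have hr' : Set.range (a ≫ Fp X p n).base ⊆ Set.range (u ⁻¹ᵁ U.1).ι.base := by
      rw [Scheme.Opens.range_ι]
      rintro _ ⟨z, rfl⟩
      exact h2 (x := z) trivial
    rw [← reassoc_of% WeakNorm.lift_toSpecΓ (a ≫ Fp X p n) (u ⁻¹ᵁ U.1) h2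
      (IsOpenImmersion.lift _ _ hr') (IsOpenImmersion.lift_fac _ _ hr')]
    exact ((congrArg (IsOpenImmersion.lift _ _ hr' ≫ ·)
      (IsAffineOpen.toSpecΓ_fromSpec (U.2.preimage u))).trans (IsOpenImmersion.lift_fac _ _ hr'))
  clear_value ψ
  have hglue : ∀ (s t : ι) (P : Scheme.{u}) (a : P ⟶ (s.1 : Scheme.{u}))
      (b : P ⟶ (t.1 : Scheme.{u})) (j : P ⟶ Y),
      IsOpenImmersion j → a ≫ s.1.ι = j → b ≫ t.1.ι = j → a ≫ ψ s = b ≫ ψ t := by
    intro s t P a b j hj ha hb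
    haveI : Epi (pullback.snd u j) := WeakNorm.epi_of_surjective _
    rw [← cancel_epi (pullback.snd u j), ← Category.assoc, ← Category.assoc,
      hψ s _ (pullback.fst u j) _ (by rw [Category.assoc, ha, pullback.condition]),
      hψ t _ (pullback.fst u j) _ (by rw [Category.assoc, hb, pullback.condition])]
  refine ⟨cov.glueMorphisms ψ fun s t => hglue s t _ _ _ _
    (inferInstanceAs (IsOpenImmersion (pullback.fst (cov.f s) (cov.f t) ≫ cov.f s))) rfl
    pullback.condition.symm, ?_⟩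
  have hcovW : TopologicalSpace.IsOpenCover (fun U : ι => u ⁻¹ᵁ U.1) :=
    TopologicalSpace.IsOpenCover.comap (iSup_affineOpens_eq_top Y) _
  refine Scheme.Cover.hom_ext (X.openCoverOfIsOpenCover _ hcovW) _ _ fun U => ?_
  show (u ⁻¹ᵁ U.1).ι ≫ _ ≫ _ = (u ⁻¹ᵁ U.1).ι ≫ Fp X p n
  rw [← Category.assoc, ← morphismRestrict_ι, Category.assoc]
  refine (congrArg ((u ∣_ U.1) ≫ ·) (Scheme.Cover.ι_glueMorphisms cov ψ _ U)).trans ?_
  exact hψ U _ _ _ (morphismRestrict_ι u U.1)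

omit [IsAffineHom u] in
theorem root_comp [FrobSch.IsCharP Y p] (n : ℕ) (v : Y ⟶ X) (hv : u ≫ v = Fp X p n)
    [QuasiCompact u] : v ≫ u = Fp Y p n := by
  haveI : Epi u := WeakNorm.epi_of_surjective u
  rw [← cancel_epi u, reassoc_of% hv, Fp_comp]

omit [IsAffineHom u] [IsSchemeTheoreticallyDominant u] in
theorem root_over {S : Scheme.{u}} [FrobSch.IsCharP S p] (fX : X ⟶ S) (fY : Y ⟶ S)
    (hu : u ≫ fY = fX) [QuasiCompact u] [IsSchemeTheoreticallyDominant u] (n : ℕ) (v : Y ⟶ X)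
    (hv : u ≫ v = Fp X p n) : v ≫ fX = fY ≫ Fp S p n := by
  haveI : Epi u := WeakNorm.epi_of_surjective u
  rw [← cancel_epi u, reassoc_of% hv, reassoc_of% hu, Fp_comp]

theorem isUnivHomeo_Fp (Z : Scheme.{u}) [FrobSch.IsCharP Z p] (n : ℕ) :
    FlatMor.IsUnivHomeo (Fp Z p n) ∧ UniversallyClosed (Fp Z p n) ∧
      UniversallyInjective (Fp Z p n) := by
  have h : UniversallyClosed (Fp Z p n) ∧ UniversallyInjective (Fp Z p n) ∧
      Surjective (Fp Z p n) := by
    induction n with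
    | zero =>
      exact ⟨inferInstanceAs (UniversallyClosed (𝟙 Z)), inferInstanceAs (UniversallyInjective (𝟙 Z)),
        inferInstanceAs (Surjective (𝟙 Z))⟩
    | succ n ih =>
      obtain ⟨h1, h2, h3⟩ := ih
      rw [Fp_succ]
      exact ⟨inferInstance, MorphismProperty.comp_mem @UniversallyInjective _ _ h2 inferInstance, inferInstance⟩
  obtain ⟨h1, h2, h3⟩ := h
  exact ⟨Groth.Variety2.isUnivHomeo_of _, h1, h2⟩

omit [IsAffineHom u] [IsSchemeTheoreticallyDominant u] in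
theorem isUnivHomeo_root [FrobSch.IsCharP Y p] (n : ℕ) (v : Y ⟶ X) (hv : u ≫ v = Fp X p n)
    (hvu : v ≫ u = Fp Y p n) : FlatMor.IsUnivHomeo v := by
  haveI : Surjective v := ⟨fun x => ⟨u.base x, by rw [← Scheme.Hom.comp_apply, hv, Fp_apply]⟩⟩
  haveI : UniversallyClosed v := by
    haveI : UniversallyClosed (u ≫ v) := by rw [hv]; exact (isUnivHomeo_Fp p X n).2.1
    exact .of_comp_surjective u v
  haveI : UniversallyInjective v := by
    have h := (isUnivHomeo_Fp p Y n).2.2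
    rw [← hvu] at h
    refine ((tfae_universallyInjective v).out 0 1 :
      _ ↔ ∀ (K : Type u) [Field K], Function.Injective (fun g : Spec (.of K) ⟶ Y => g ≫ v)).2
      fun K _ g₁ g₂ e => ?_
    refine (((tfae_universallyInjective (v ≫ u)).out 0 1 :
      _ ↔ ∀ (K : Type u) [Field K],
        Function.Injective (fun g : Spec (.of K) ⟶ Y => g ≫ v ≫ u)).1 h) K ?_
    simp only at e ⊢
    rw [← Category.assoc, e, Category.assoc]
  exact Groth.Variety2.isUnivHomeo_of v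

theorem isIso_Fp_spec (k : Type u) [Field k] [CharP k p] [PerfectField k] (n : ℕ) :
    IsIso (Fp (Spec (CommRingCat.of k)) p n) := by
  haveI : ExpChar k p := ExpChar.prime Fact.out
  haveI : PerfectRing k p := PerfectField.toPerfectRing p
  induction n with
  | zero => exact inferInstanceAs (IsIso (𝟙 _))
  | succ r ih =>
    have : IsIso (FrobSch.frob (Spec (CommRingCat.of k)) p) := by
      have hk : (p : CommRingCat.of k) = 0 := CharP.cast_eq_zero k p
      rw [← Groth.Misc8.QuietComp.specMap_powHom (CommRingCat.of k) hk]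
      have : IsIso (CommRingCat.ofHom (FrobSch.powHom p (CommRingCat.of k) hk)) :=
        (ConcreteCategory.isIso_iff_bijective _).2 (PerfectRing.bijective_frobenius (R := k) (p := p))
      infer_instance
    rw [Fp_succ]; infer_instance

end Groth.Agent.Misc6.FrobRoot
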